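import Groth.Agent.Lib.DualTF27.Main
import Groth.Agent.Lib.CodimExt27.Basic
import Groth.Agent.Lib.CodimExt27.Twist
import Groth.Agent.Lib.ProjDim.Const
import Groth.Agent.Lib.CurveMult.ProjSmooth
import Groth.Agent.Lib.WeilExt.Extend
import Groth.Agent.S10829

/-! # The dualizing module of a subscheme of projective space -/

set_option autoImplicit false
set_option linter.style.haveILetI false

universe u

open CategoryTheory CategoryTheory.Limits AlgebraicGeometry

namespace GrothLib.DualTF27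

variable (k : Type u) [Field k] (n : ℕ)

theorem isRegular_projSpace (p : CohB1.ProjSpace n k) : IsRegularLocalRing ((CohB1.ProjSpace n k).presheaf.stalk p) :=
  haveI : Smooth (CohB1.ProjSpace.toSpec n k) := CurveMult.smooth_toSpec n k
  WeilExt.isRegularLocalRing_stalk_of_smooth (CohB1.ProjSpace.toSpec n k)
    (fun s => WeilExt.isRegularLocalRing_stalk_spec k s) p

theorem pure_projSpace (Z : Set ↥(CohB1.ProjSpace n k)) (hZ : Z ∈ irreducibleComponents ↥(CohB1.ProjSpace n k)) :
    topologicalKrullDim ↥Z = (n : WithBot ℕ∞) := by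
  haveI : IsIntegral (CohB1.ProjSpace n k) := ProjDim.isIntegral_proj k n
  rw [irreducibleComponents_eq_singleton] at hZ
  rw [Set.mem_singleton_iff.1 hZ, ← Groth.Agent.S10829.result k n]
  exact (Homeomorph.Set.univ _).isHomeomorph.topologicalKrullDim_eq

theorem rankOne_twist (d : ℤ) : FlatMod.IsFinLocFreeOfRank 1 (Twist.twistProjSpace n k d) := fun x => by
  obtain ⟨U, hx, ⟨φ⟩⟩ := CodimExt27.isInvertible_twistProj n k d x
  exact ⟨U, hx, ⟨φ ≪≫ (coproductUniqueIso fun _ : Fin 1 => Coh.structureModule (↑U)).symm⟩⟩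

/-- The codimension at the generic points of an equidimensional subscheme. -/
theorem dim_stalk_image_of_generic {X : Scheme.{u}} (ι' : X ⟶ CohB1.ProjSpace n k) [IsClosedImmersion ι'] {r : ℕ}
    (hr : r ≤ n)
    (heq : ∀ Z : Set ↥X, Z ∈ irreducibleComponents ↥X → topologicalKrullDim ↥Z = (r : WithBot ℕ∞))
    (ξ : X) (hξ : closure ({ξ} : Set ↥X) ∈ irreducibleComponents ↥X) :
    ringKrullDim ((CohB1.ProjSpace n k).presheaf.stalk (ι' ξ)) = ((n - r : ℕ) : WithBot ℕ∞) := by
  haveI := ProjDim.locallyOfFiniteType_toSpec k n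
  have h := CodimExt27.ptDim_add_dim_stalk (CohB1.ProjSpace.toSpec n k) (pure_projSpace k n) (ι' ξ)
  have hcl : AffDom.ptDim (ι' ξ) = (r : WithBot ℕ∞) := by
    rw [← heq _ hξ]
    refine (Dim.IsEmbedding.topologicalKrullDim_eq (f := fun z : ↥(closure ({ξ} : Set X)) => ι' z.1)
      (ι'.isEmbedding.comp Topology.IsEmbedding.subtypeVal) ?_).symm
    rw [show Set.range (fun z : ↥(closure ({ξ} : Set X)) => ι' z.1) = ι' '' closure {ξ} from
      (Set.range_comp ι' Subtype.val).trans (by rw [Subtype.range_coe])]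
    rw [← ι'.isClosedEmbedding.closure_image_eq, Set.image_singleton]
  rw [hcl] at h
  haveI := isRegular_projSpace k n (ι' ξ)
  obtain ⟨e, he⟩ := ENat.ne_top_iff_exists.1
    (Ideal.height_ne_top (I := IsLocalRing.maximalIdeal ((CohB1.ProjSpace n k).presheaf.stalk (ι' ξ))) Ideal.IsPrime.ne_top')
  have hd : ringKrullDim ((CohB1.ProjSpace n k).presheaf.stalk (ι' ξ)) = ((e : ℕ) : WithBot ℕ∞) := by
    rw [← IsLocalRing.maximalIdeal_height_eq_ringKrullDim, ← he]; rfl
  rw [hd] at h ⊢
  have h' : r + e = n := by exact_mod_cast h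
  rw [show e = n - r by omega]

end GrothLib.DualTF27
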