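import Groth.Agent.Lib.DualTF27.Alg
import Groth.Agent.Lib.ExtTilde20.StalkExt
import Groth.Agent.Lib.GrBass.Main
import Groth.Agent.Lib.QCoh.ClosedImmersion
import Groth.Agent.Lib.QCoh.Coherent
import Groth.Agent.Lib.Ref1.Frame
import Groth.Agent.Lib.Euler.Coh
import Groth.Agent.Lib.SheafCoh.TensorAdj

/-! # Stalks of a sheaf whose direct image is an Ext sheaf -/

set_option autoImplicit false
set_option maxHeartbeats 400000
set_option linter.style.haveILetI false
set_option backward.isDefEq.respectTransparency false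

universe u

open CategoryTheory CategoryTheory.Limits AlgebraicGeometry CategoryTheory.Abelian

namespace GrothLib.DualTF27

noncomputable section

open ExtTilde20

/-- Stalks of modules of rank one. -/
theorem nonempty_stalk_iso_of_rank_one {Y : Scheme.{u}} {M : Y.Modules} (hM : FlatMod.IsFinLocFreeOfRank 1 M) (y : Y) :
    Nonempty ((OX.stalk y).obj M ≅ ModuleCat.of (Y.presheaf.stalk y) (Y.presheaf.stalk y)) := by
  obtain ⟨U, e, hy, he⟩ := FinCov.exists_frame_nhd_of_rank hM y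
  exact ⟨(((LinearEquiv.funUnique (Fin 1) (Y.presheaf.stalk y) (Y.presheaf.stalk y)).symm ≪≫ₗ
    LinearEquiv.ofBijective _ (Ref1.stalk_of_isFrame he y hy))).toModuleIso.symm⟩

variable {P X : Scheme.{u}} (ι' : X ⟶ P) [IsClosedImmersion ι'] (ξ : X)

/-- From the site stalk of the ambient scheme to the local ring. -/
abbrev resHom : ModSite.stalkRing (pt (ι' ξ)) P.sheaf →+* X.presheaf.stalk ξ :=
  (ι'.stalkMap ξ).hom.comp (ringEquiv (ι' ξ)).toRingHom

theorem resHom_surjective : Function.Surjective (resHom ι' ξ) :=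
  (ι'.stalkMap_surjective ξ).comp (ringEquiv (ι' ξ)).surjective

/-- The site stalk of a direct image. -/
def stalkModPushIso (N : X.Modules) :
    ModSite.stalkMod (O := P.sheaf) (pt (ι' ξ)) ((Scheme.Modules.pushforward ι').obj N) ≅
      (ModuleCat.restrictScalars (resHom ι' ξ)).obj ((OX.stalk ξ).obj N) :=
  haveI : IsIso (QCoh.pushStalkHom ι' ξ N) :=
    (ConcreteCategory.isIso_iff_bijective _).2 (QCoh.pushStalkHom_bijective ι' ξ N ι'.isClosedEmbedding.isInducing)
  stalkModIso (ι' ξ) _ ≪≫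
    (ModuleCat.restrictScalars (ringEquiv (ι' ξ)).toRingHom).mapIso (asIso (QCoh.pushStalkHom ι' ξ N)) ≪≫
    (ModuleCat.restrictScalarsComp'App (ringEquiv (ι' ξ)).toRingHom (ι'.stalkMap ξ).hom (resHom ι' ξ) rfl _).symm

/-- Site stalks of isomorphic modules. -/
def stalkModMapIso {M M' : P.Modules} (e : M ≅ M') (x : P) :
    ModSite.stalkMod (O := P.sheaf) (pt x) M ≅ ModSite.stalkMod (O := P.sheaf) (pt x) M' :=
  stalkModIso x M ≪≫ (ModuleCat.restrictScalars (ringEquiv x).toRingHom).mapIso ((OX.stalk x).mapIso e) ≪≫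
    (stalkModIso x M').symm

variable [IsLocallyNoetherian P] {c : ℕ}
  [ModSite.HasSheafHom (O := P.sheaf) ((Scheme.Modules.pushforward ι').obj (Coh.structureModule X))]
  [HasInjectiveResolutions (ModSite.Mod P.sheaf)]

theorem nonempty_stalk_iso_ext {ωP : P.Modules} (hωP : FlatMod.IsFinLocFreeOfRank 1 ωP) {ω : X.Modules}
    (hω : Nonempty ((Scheme.Modules.pushforward ι').obj ω ≅
      (ModSite.extSh (O := P.sheaf) ((Scheme.Modules.pushforward ι').obj (Coh.structureModule X)) c).obj ωP)) :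
    Nonempty ((ModuleCat.restrictScalars (resHom ι' ξ)).obj ((OX.stalk ξ).obj ω) ≅
      ModuleCat.of (ModSite.stalkRing (pt (ι' ξ)) P.sheaf)
        (Ext ((ModuleCat.restrictScalars (resHom ι' ξ)).obj (ModuleCat.of (X.presheaf.stalk ξ) (X.presheaf.stalk ξ)))
          (ModuleCat.of (ModSite.stalkRing (pt (ι' ξ)) P.sheaf) (ModSite.stalkRing (pt (ι' ξ)) P.sheaf)) c)) := by
  obtain ⟨e⟩ := hω
  have hG : Coh.IsCoh ((Scheme.Modules.pushforward ι').obj (Coh.structureModule X)) := QCoh.pushUnit_isCoh ι'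
  obtain ⟨_, ⟨U, hU, rfl⟩, hxU, -⟩ := P.isBasis_affineOpens.exists_subset_of_mem_open (Set.mem_univ (ι' ξ)) isOpen_univ
  replace hU : IsAffineOpen U := hU
  haveI := hG.1
  haveI : IsNoetherianRing Γ(P, U) := IsLocallyNoetherian.component_noetherian ⟨U, hU⟩
  haveI : Module.Finite Γ(P, U) Γ((Scheme.Modules.pushforward ι').obj (Coh.structureModule X), U) :=
    QCoh.moduleFinite_of_isFiniteType _ hG.2 hU
  obtain ⟨y, hy⟩ : ι' ξ ∈ Set.range hU.fromSpec := by rw [hU.range_fromSpec]; exact hxU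
  obtain ⟨a⟩ : Nonempty (ModSite.stalkMod (O := P.sheaf) (pt (ι' ξ))
        ((ModSite.extSh (O := P.sheaf) ((Scheme.Modules.pushforward ι').obj (Coh.structureModule X)) c).obj ωP)
      ≃ₗ[ModSite.stalkRing (pt (ι' ξ)) P.sheaf]
      Ext (ModSite.stalkMod (O := P.sheaf) (pt (ι' ξ)) ((Scheme.Modules.pushforward ι').obj (Coh.structureModule X)))
        (ModSite.stalkMod (O := P.sheaf) (pt (ι' ξ)) ωP) c) := by
    rw [← hy]
    exact nonempty_stalkMod_extSh_iso _ ωP hU y c
  obtain ⟨u⟩ := nonempty_stalk_iso_of_rank_one (M := Coh.structureModule X)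
    (fun z => ⟨⊤, trivial, ⟨Scheme.Modules.restrictUnitIso _ ≪≫ (coproductUniqueIso fun _ : Fin 1 => _).symm⟩⟩) ξ
  obtain ⟨w⟩ := nonempty_stalk_iso_of_rank_one hωP (ι' ξ)
  let σ := ringEquiv (ι' ξ)
  let w' : ModSite.stalkMod (O := P.sheaf) (pt (ι' ξ)) ωP ≅
      ModuleCat.of (ModSite.stalkRing (pt (ι' ξ)) P.sheaf) (ModSite.stalkRing (pt (ι' ξ)) P.sheaf) :=
    stalkModIso (ι' ξ) ωP ≪≫ (ModuleCat.restrictScalars σ.toRingHom).mapIso w ≪≫
      (LinearEquiv.toModuleIso (X₁ := ModuleCat.of (ModSite.stalkRing (pt (ι' ξ)) P.sheaf) (ModSite.stalkRing (pt (ι' ξ)) P.sheaf))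
        (X₂ := (ModuleCat.restrictScalars σ.toRingHom).obj (ModuleCat.of (P.presheaf.stalk (ι' ξ)) (P.presheaf.stalk (ι' ξ))))
        { σ.toAddEquiv with map_smul' := fun r m => map_mul σ r m }).symm
  let v := stalkModPushIso ι' ξ (Coh.structureModule X) ≪≫ (ModuleCat.restrictScalars (resHom ι' ξ)).mapIso u
  exact ⟨(stalkModPushIso ι' ξ ω).symm ≪≫ stalkModMapIso e (ι' ξ) ≪≫ a.toModuleIso ≪≫
    ((GrBass.extSourceEquiv v.symm _ c).trans (GrBass.extTargetEquiv _ w' c)).toModuleIso⟩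

end

end GrothLib.DualTF27
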