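import Groth.Agent.Lib.Depth.CM
import Groth.Agent.Lib.CMFree.FiniteFlat
import Groth.Agent.Lib.Depth.Reduce
import Groth.Agent.Lib.GrBass.Step
import Groth.Agent.Lib.GLSlice.Regular
import Groth.Agent.Lib.AffDom.Formula
import Mathlib.RingTheory.Regular.Category
import Mathlib.RingTheory.Depth.Rees

/-! # The Ext module in the degree of a regular sequence inside the annihilator -/

set_option autoImplicit false
set_option linter.style.haveILetI false

universe u

open CategoryTheory CategoryTheory.Abelian RingTheory.Sequence IsLocalRing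
open scoped Pointwise

namespace GrothLib.DualTF27

noncomputable section

variable {A : Type u} [CommRing A] (N : ModuleCat.{u} A)

theorem smul_ext_eq_zero {a : A} (ha : a ∈ Module.annihilator A N) {M : ModuleCat.{u} A} {i : ℕ}
    (e : Ext N M i) : a • e = 0 := by
  have h : a • 𝟙 N = 0 := ModuleCat.hom_ext (LinearMap.ext fun y => Module.mem_annihilator.1 ha y)
  rw [GrothLib.LC.smul_eq_mk₀_comp, h, Ext.mk₀_zero, Ext.zero_comp]

theorem comp_smul_f_eq_zero {a : A} (ha : a ∈ Module.annihilator A N) {M : ModuleCat.{u} A} {i : ℕ}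
    (e : Ext N M i) : e.comp (Ext.mk₀ (M.smulShortComplex a).f) (add_zero i) = 0 := by
  rw [Depth.smulShortComplex_f]
  exact (Ext.smul_eq_comp_mk₀ e a).symm.trans (smul_ext_eq_zero N ha e)

theorem ext_subsingleton_and_iso : ∀ (rs : List A) (M : ModuleCat.{u} A),
    IsWeaklyRegular M rs → (∀ r ∈ rs, r ∈ Module.annihilator A N) →
    (∀ i < rs.length, Subsingleton (Ext N M i)) ∧
      Nonempty (Ext N M rs.length ≃ₗ[A] (N →ₗ[A] (M ⧸ (Ideal.ofList rs • ⊤ : Submodule A M)))) := by
  intro rs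
  induction rs with
  | nil =>
    intro M _ _
    refine ⟨fun i hi => absurd hi (Nat.not_lt_zero i), ?_⟩
    exact ⟨Ext.linearEquiv₀ ≪≫ₗ ModuleCat.homLinearEquiv ≪≫ₗ
      LinearEquiv.congrRight (Submodule.quotEquivOfEqBot _ (by simp)).symm⟩
  | cons a rs ih =>
    intro M hreg hmem
    rw [isWeaklyRegular_cons_iff] at hreg
    have ha := hmem a List.mem_cons_self
    obtain ⟨hvan, ⟨φ⟩⟩ := ih (ModuleCat.of A (QuotSMulTop a M)) hreg.2
      (fun r hr => hmem r (List.mem_cons_of_mem a hr))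
    have hS := IsSMulRegular.smulShortComplex_shortExact (M := M) hreg.1
    have hvanM : ∀ i < rs.length + 1, Subsingleton (Ext N M i) := by
      intro i hi
      refine subsingleton_of_forall_eq 0 fun e => ?_
      rcases i with - | j
      · obtain ⟨ψ, rfl⟩ := (Ext.mk₀_bijective _ _).2 e
        have h : ψ = 0 := ModuleCat.hom_ext (LinearMap.ext fun y => hreg.1.right_eq_zero_of_smul (by
          rw [← map_smul, Module.mem_annihilator.1 ha y, map_zero]))
        rw [h, Ext.mk₀_zero]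
      · obtain ⟨y, hy⟩ := Ext.covariant_sequence_exact₁ N hS e (comp_smul_f_eq_zero N ha e) (n₀ := j) rfl
        have := hvan j (by omega)
        rw [← hy, show y = 0 from @Subsingleton.elim _ this _ _, Ext.zero_comp]; rfl
    refine ⟨hvanM, ?_⟩
    let δ : Ext N (ModuleCat.of A (QuotSMulTop a M)) rs.length →ₗ[A] Ext N M (rs.length + 1) :=
      { toFun := fun e => e.comp hS.extClass rfl
        map_add' := fun _ _ => Ext.add_comp _ _ _ _
        map_smul' := fun _ _ => Ext.smul_comp _ _ _ _ }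
    have hδ : Function.Bijective δ := by
      constructor
      · refine (injective_iff_map_eq_zero δ).2 fun x hx => ?_
        obtain ⟨y, hy⟩ := Ext.covariant_sequence_exact₃ N hS x rfl hx
        have := hvanM rs.length (Nat.lt_succ_self _)
        rw [← hy, show y = 0 from @Subsingleton.elim _ this _ _, Ext.zero_comp]; rfl
      · intro e
        obtain ⟨y, hy⟩ := Ext.covariant_sequence_exact₁ N hS e (comp_smul_f_eq_zero N ha e) (n₀ := rs.length) rfl
        exact ⟨y, hy⟩
    exact ⟨(LinearEquiv.ofBijective δ hδ).symm ≪≫ₗ φ ≪≫ₗ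
      LinearEquiv.congrRight (Submodule.quotOfListConsSMulTopEquivQuotSMulTopInner M a rs).symm⟩

section CM

variable {A : Type u} [CommRing A] [LocCoh.IsCohenMacaulayLocalRing A] {I : Ideal A} {c : ℕ}

theorem exists_regular_in (hI : I ≠ ⊤) (hmin : ∀ P ∈ I.minimalPrimes, P.height = c) :
    ∃ rs : List A, rs.length = c ∧ (∀ r ∈ rs, r ∈ I) ∧ IsWeaklyRegular A rs := by
  have hCM : LocCoh.IsCohenMacaulayModule A A := LocCoh.IsCohenMacaulayLocalRing.supportDim_eq_depth
  have hne : I • (⊤ : Submodule A A) ≠ ⊤ := by rwa [smul_eq_mul, Ideal.mul_top]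
  refine (Depth.le_idealDepth_iff_exists I hne c).1 ?_
  obtain ⟨t, ht⟩ := ENat.ne_top_iff_exists.1 (Depth.idealDepth_ne_top (M := A) hI)
  have h1 := Depth.supportDim_eq_add_idealDepth t hI A hCM ht.symm
  have hann : Module.supportDim A (A ⧸ (I • (⊤ : Submodule A A))) = ringKrullDim (A ⧸ I) := by
    rw [smul_eq_mul, Ideal.mul_top, Module.supportDim_eq_ringKrullDim_quotient_annihilator,
      Ideal.annihilator_quotient]
  rw [Module.supportDim_self_eq_ringKrullDim, hann] at h1
  obtain ⟨P, hP, hPd⟩ := GLSlice.exists_minimalPrime_dim I hI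
  haveI := hP.1.1
  have h2 := AffDom.height_add_ringKrullDim_quotient_le P
  rw [hmin P hP] at h2
  haveI : Nontrivial (A ⧸ I) := Ideal.Quotient.nontrivial_iff.2 hI
  obtain ⟨a, ha⟩ := ENat.ne_top_iff_exists.1 (Ideal.height_ne_top (I := maximalIdeal A) Ideal.IsPrime.ne_top')
  have hda : ringKrullDim A = ((a : ℕ) : WithBot ℕ∞) := by
    rw [← maximalIdeal_height_eq_ringKrullDim, ← ha]; rfl
  rw [hda] at h1 h2
  obtain ⟨e, he⟩ := WithBot.ne_bot_iff_exists.1 (ne_bot_of_le_ne_bot (WithBot.coe_ne_bot (a := (0 : ℕ∞)))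
    (ringKrullDim_nonneg_of_nontrivial (R := A ⧸ I)))
  rw [← he] at h1
  have h3 : ((c : ℕ∞) : WithBot ℕ∞) + (e : WithBot ℕ∞) ≤ ((a : ℕ∞) : WithBot ℕ∞) :=
    le_trans (add_le_add le_rfl (he.le.trans hPd)) h2
  have h4 : (a : ℕ∞) = e + t := by exact_mod_cast h1
  have h5 : (c : ℕ∞) + e ≤ (a : ℕ∞) := by exact_mod_cast h3
  rw [← ht]
  rw [h4, add_comm e] at h5
  have hefin : e ≠ ⊤ := fun h => by rw [h, top_add] at h4; exact ENat.coe_ne_top a h4
  exact (WithTop.add_le_add_iff_right hefin).1 h5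

/-- Unmixedness. -/
theorem height_le_of_mem_associatedPrimes (rs : List A) (hrs : IsWeaklyRegular A rs) (hlen : rs.length = c)
    (hm : ∀ r ∈ rs, r ∈ maximalIdeal A) {p : Ideal A}
    (hp : p ∈ associatedPrimes A (A ⧸ (Ideal.ofList rs • ⊤ : Submodule A A))) :
    p.height ≤ (c : ℕ∞) := by
  haveI := hp.isPrime
  have h1 := Depth.idealDepth_ofList (maximalIdeal A) rs hm A hrs
  have h2 := Depth.depth_le_dim_quotient hp
  have h3 := AffDom.height_add_ringKrullDim_quotient_le p
  have hCM : Module.supportDim A A = ((LocCoh.depth A A : ℕ∞) : WithBot ℕ∞) :=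
    LocCoh.IsCohenMacaulayLocalRing.supportDim_eq_depth
  rw [Module.supportDim_self_eq_ringKrullDim, LocCoh.depth, h1, hlen] at hCM
  rw [LocCoh.depth] at h2
  rw [hCM] at h3
  have h4 : ((p.height : ℕ∞) : WithBot ℕ∞) +
      ((LocCoh.idealDepth (maximalIdeal A) (A ⧸ (Ideal.ofList rs • ⊤ : Submodule A A)) : ℕ∞) : WithBot ℕ∞) ≤ _ :=
    le_trans (add_le_add le_rfl h2) h3
  rw [← WithBot.coe_add, WithBot.coe_le_coe, add_comm _ (c : ℕ∞)] at h4
  refine (WithTop.add_le_add_iff_right (fun h => ?_)).1 h4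
  obtain ⟨a, ha⟩ := ENat.ne_top_iff_exists.1 (Ideal.height_ne_top (I := maximalIdeal A) Ideal.IsPrime.ne_top')
  rw [← maximalIdeal_height_eq_ringKrullDim, ← ha, h] at hCM
  exact ENat.coe_ne_top a ((WithBot.coe_injective hCM).trans (top_add _))

variable {B : Type u} [CommRing B] [Algebra A B] (hB : Function.Surjective (algebraMap A B))
  {M : Type u} [AddCommGroup M] [Module A M] [Module B M] [IsScalarTower A B M]

include hB in
/-- `Ext^c(B, A)` has no element killed by an element outside the minimal primes of `B`. -/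
theorem eq_zero_of_smul_eq_zero [Nontrivial B]
    (e : M ≃ₗ[A] Ext (ModuleCat.of A B) (ModuleCat.of A A) c)
    (hmin : ∀ P ∈ (RingHom.ker (algebraMap A B)).minimalPrimes, P.height = c)
    {b : B} (hb : ∀ q ∈ minimalPrimes B, b ∉ q) {m : M} (hm : b • m = 0) : m = 0 := by
  set I := RingHom.ker (algebraMap A B)
  have hI : I ≠ ⊤ := RingHom.ker_ne_top _
  obtain ⟨rs, hlen, hmem, hreg⟩ := exists_regular_in hI hmin
  have hann : ∀ r ∈ I, r ∈ Module.annihilator A (ModuleCat.of A B) := fun r hr =>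
    Module.mem_annihilator.2 fun y => by
      show r • (show B from y) = 0
      rw [Algebra.smul_def, RingHom.mem_ker.1 hr, zero_mul]
  obtain ⟨-, ⟨φ⟩⟩ := ext_subsingleton_and_iso (ModuleCat.of A B) rs (ModuleCat.of A A) hreg
    (fun r hr => hann r (hmem r hr))
  subst hlen
  let ψ : M ≃ₗ[A] (B →ₗ[A] (A ⧸ (Ideal.ofList rs • ⊤ : Submodule A A))) := e ≪≫ₗ φ
  obtain ⟨a, rfl⟩ := hB b
  rw [algebraMap_smul] at hm
  refine ψ.injective (LinearMap.ext fun y => ?_)
  rw [map_zero, LinearMap.zero_apply]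
  by_contra hne
  have haq : a • ψ m y = 0 := by rw [← LinearMap.smul_apply, ← map_smul, hm, map_zero]; rfl
  obtain ⟨p, hp, hle⟩ := exists_le_isAssociatedPrime_of_isNoetherianRing A _ hne
  have hIp : I ≤ p := fun r hr => hle (Submodule.mem_colon_singleton.2 (by
    rw [← map_smul, show r • y = 0 from Module.mem_annihilator.1 (hann r hr) y, map_zero]
    exact Submodule.mem_bot _ |>.2 rfl))
  have hap : a ∈ p := hle (Submodule.mem_colon_singleton.2 (by rw [haq]; exact Submodule.zero_mem _))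
  haveI := hp.isPrime
  obtain ⟨P, hP, hPp⟩ := Ideal.exists_minimalPrimes_le hIp
  haveI := hP.1.1
  have hrsm : ∀ r ∈ rs, r ∈ maximalIdeal A := fun r hr => le_maximalIdeal hI (hmem r hr)
  have hpc := height_le_of_mem_associatedPrimes rs hreg rfl hrsm hp
  have hPp' : P = p := by
    by_contra hne'
    haveI : P.FiniteHeight := ⟨Or.inr (Ideal.height_ne_top Ideal.IsPrime.ne_top')⟩
    have := Ideal.height_strict_mono_of_isPrime (lt_of_le_of_ne hPp hne')
    exact absurd (this.trans_le hpc) (by rw [hmin P hP]; exact lt_irrefl _)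
  subst hPp'
  obtain ⟨Q, hQ, hQc⟩ : ∃ Q ∈ minimalPrimes B, Q.comap (algebraMap A B) = P := by
    have := Ideal.comap_minimalPrimes_eq_of_surjective hB (⊥ : Ideal B)
    rw [← RingHom.ker_eq_comap_bot] at this
    obtain ⟨Q, hQ, hQe⟩ := (this ▸ hP : P ∈ _)
    exact ⟨Q, hQ, hQe⟩
  exact hb Q hQ (by rw [← hQc] at hap; exact hap)

end CM

section Regular

/-- One generator in degree zero. -/
def rankOne : ℕ → Type u
  | 0 => PUnit.{u + 1}
  | _ + 1 => PEmpty.{u + 1}

variable {A : Type u} [CommRing A] [IsRegularLocalRing A]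

/-- `Ext^c(k, A)` is the residue field for a regular local ring of dimension `c`. -/
theorem nonempty_ext_residue_linearEquiv {c : ℕ} (hc : ringKrullDim A = c) :
    Nonempty (Ext (ModuleCat.of A (A ⧸ maximalIdeal A)) (ModuleCat.of A A) c ≃ₗ[A] A ⧸ maximalIdeal A) := by
  obtain ⟨rs, h4, h5, h6⟩ := CMFree.exists_weaklyRegular_of_isRegularLocalRing A
  haveI := CMFree.isCohenMacaulayLocalRing_of_weaklyRegular A rs h4 h5 h6.ge
  have hdep : LocCoh.depth A A = (c : ℕ∞) := by
    have h := LocCoh.IsCohenMacaulayLocalRing.supportDim_eq_depth (R := A)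
    rw [Module.supportDim_self_eq_ringKrullDim, hc] at h
    exact (WithBot.coe_injective h).symm
  obtain ⟨s, hscard, hs⟩ := Submodule.FG.exists_span_set_encard_eq_spanFinrank
    (IsNoetherian.noetherian (maximalIdeal A))
  have hsf : s.Finite := Set.finite_of_encard_eq_coe hscard
  let xs := hsf.toFinset.toList
  have hspan : Ideal.ofList xs = maximalIdeal A := by
    show Ideal.span _ = _
    rw [← hs]; congr 1; ext a; simp [xs]
  have hxlen : xs.length = c := by
    have h1 : ((maximalIdeal A).spanFinrank : WithBot ℕ∞) = c := by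
      rw [IsRegularLocalRing.spanFinrank_maximalIdeal, hc]
    have h2 : (xs.length : ℕ∞) = (maximalIdeal A).spanFinrank := by
      rw [← hscard, hsf.encard_eq_coe_toFinset_card]; simp [xs]
    have h1' : (maximalIdeal A).spanFinrank = c := by exact_mod_cast h1
    exact ENat.coe_inj.1 (h2.trans (by rw [h1']))
  have hxm : ∀ x ∈ xs, x ∈ maximalIdeal A := fun x hx => hspan ▸ Ideal.subset_span hx
  have hxreg : IsWeaklyRegular A xs := Depth.isWeaklyRegular_of_le_idealDepth xs hxm (by
    rw [hspan, hxlen]; exact hdep.ge)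
  classical
  let Λ : ℕ → Type u := rankOne.{u}
  have h0 : GrBass.HasRanks (⊥ : Ideal A) (ModuleCat.of A A) Λ := by
    intro i
    rcases i with - | i
    · exact ⟨Ext.linearEquiv₀ ≪≫ₗ ModuleCat.homLinearEquiv ≪≫ₗ
        LinearEquiv.congrLeft A A (Submodule.quotEquivOfEqBot (⊥ : Ideal A) rfl) ≪≫ₗ
        LinearMap.ringLmapEquivSelf A A A ≪≫ₗ (Submodule.quotEquivOfEqBot (⊥ : Ideal A) rfl).symm ≪≫ₗ
        (Finsupp.LinearEquiv.finsuppUnique A (A ⧸ (⊥ : Ideal A)) PUnit.{u + 1}).symm⟩
    · haveI : IsEmpty (Λ (i + 1)) := inferInstanceAs (IsEmpty PEmpty.{u + 1})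
      haveI : Projective (ModuleCat.of A (A ⧸ (⊥ : Ideal A))) := by
        haveI : Module.Projective A (A ⧸ (⊥ : Ideal A)) :=
          Module.Projective.of_equiv (Submodule.quotEquivOfEqBot (⊥ : Ideal A) rfl).symm
        infer_instance
      haveI : Subsingleton (Ext (ModuleCat.of A (A ⧸ (⊥ : Ideal A))) (ModuleCat.of A A) (i + 1)) :=
        subsingleton_of_forall_eq 0 fun e => Ext.eq_zero_of_projective e
      exact ⟨LinearEquiv.ofSubsingleton _ _⟩
  have hreg' : IsWeaklyRegular (A ⧸ (⊥ : Ideal A)) xs :=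
    ((Submodule.quotEquivOfEqBot (⊥ : Ideal A) rfl).isWeaklyRegular_congr xs).2 hxreg
  have h := GrBass.hasRanks_regular xs ⊥ Λ h0 hreg'
  rw [bot_sup_eq, hspan, hxlen] at h
  obtain ⟨e⟩ := h c
  have hΛ : GrBass.shiftRank^[c] Λ c = Λ 0 := by rw [GrBass.shiftRank_of_le Λ c c le_rfl, Nat.sub_self]
  haveI : Unique (GrBass.shiftRank^[c] Λ c) := (Equiv.cast hΛ).unique (β := PUnit.{u + 1})
  exact ⟨e ≪≫ₗ Finsupp.LinearEquiv.finsuppUnique A _ _⟩

end Regular

end

end GrothLib.DualTF27
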