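import Groth.Agent.Lib.DualTF27.Bridge
import Mathlib.AlgebraicGeometry.Noetherian
import Groth.Agent.Lib.Birat.Basic
import Groth.Agent.Lib.DimCut.StalkFibre

/-! # A dualizing module is torsion free of rank one -/

set_option autoImplicit false
set_option maxHeartbeats 400000
set_option linter.style.haveILetI false
set_option backward.isDefEq.respectTransparency false

universe u

open CategoryTheory CategoryTheory.Limits AlgebraicGeometry CategoryTheory.Abelian IsLocalRing

namespace GrothLib.DualTF27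

open ExtTilde20

/-- A point without generisations has a zero dimensional local ring. -/
theorem stalk_dim_le_zero {W : Scheme.{u}} (w : W) (h : ∀ z : W, z ⤳ w → z = w) :
    ringKrullDim (W.presheaf.stalk w) ≤ 0 := by
  haveI : Subsingleton (PrimeSpectrum (W.presheaf.stalk w)) := ⟨fun a b => by
    apply (W.fromSpecStalk w).isEmbedding.injective
    have key : ∀ c, W.fromSpecStalk w c = w := fun c =>
      h _ ((W.range_fromSpecStalk (x := w)).le ⟨c, rfl⟩)
    exact (key a).trans (key b).symm⟩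
  exact Order.krullDim_nonpos_of_subsingleton

/-- Generic points of components have zero dimensional local rings. -/
theorem closure_mem_irreducibleComponents_iff {W : Scheme.{u}} (z : W) :
    closure ({z} : Set W) ∈ irreducibleComponents (W : Type u) ↔ ringKrullDim (W.presheaf.stalk z) = 0 := by
  constructor
  · intro h
    refine le_antisymm (stalk_dim_le_zero z fun w hw => ?_) ringKrullDim_nonneg_of_nontrivial
    have := h.2 isIrreducible_singleton.closure (specializes_iff_closure_subset.1 hw)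
    exact (hw.antisymm (specializes_iff_closure_subset.2 this)).eq
  · intro h
    refine ⟨isIrreducible_singleton.closure, fun Z hZ hle => ?_⟩
    obtain ⟨η, hη⟩ := QuasiSober.sober hZ.closure isClosed_closure
    have hηz : η ⤳ z := specializes_iff_mem_closure.2 (by
      rw [hη]
      exact subset_closure (hle (subset_closure rfl)))
    rw [ringKrullDim_stalk_eq_coheight] at h
    have h' : Order.coheight z = 0 := by exact_mod_cast h
    have hmax : η ≤ z := Order.coheight_eq_zero.1 h' (show z ≤ η from hηz)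
    refine subset_closure.trans ?_
    rw [← hη]
    exact specializes_iff_closure_subset.1 hmax

variable {P X : Scheme.{u}} (ι' : X ⟶ P) [IsClosedImmersion ι'] (ξ : X) [IsLocallyNoetherian P] {c : ℕ}
  [ModSite.HasSheafHom (O := P.sheaf) ((Scheme.Modules.pushforward ι').obj (Coh.structureModule X))]
  [HasInjectiveResolutions (ModSite.Mod P.sheaf)]

/-- Elements outside the minimal primes act injectively on the stalks. -/
theorem eq_zero_of_smul (hreg : IsRegularLocalRing (P.presheaf.stalk (ι' ξ)))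
    (hcodim : ∀ ξ' : X, ξ' ⤳ ξ → closure ({ξ'} : Set ↥X) ∈ irreducibleComponents ↥X →
      ringKrullDim (P.presheaf.stalk (ι' ξ')) = (c : WithBot ℕ∞))
    {ωP : P.Modules} (hωP : FlatMod.IsFinLocFreeOfRank 1 ωP) {ω : X.Modules}
    (hω : Nonempty ((Scheme.Modules.pushforward ι').obj ω ≅
      (ModSite.extSh (O := P.sheaf) ((Scheme.Modules.pushforward ι').obj (Coh.structureModule X)) c).obj ωP))
    {b : X.presheaf.stalk ξ} (hb : ∀ q ∈ minimalPrimes (X.presheaf.stalk ξ), b ∉ q)
    {m : ω.presheaf.stalk ξ} (hm : b • m = 0) : m = 0 := by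
  haveI := hreg
  obtain ⟨E⟩ := nonempty_stalk_iso_ext ι' ξ hωP hω
  let A' := ModSite.stalkRing (pt (ι' ξ)) P.sheaf
  let σ := ringEquiv (ι' ξ)
  haveI : IsRegularLocalRing A' := IsRegularLocalRing.of_ringEquiv (R := P.presheaf.stalk (ι' ξ)) σ.symm
  obtain ⟨rs, h1, h2, h3⟩ := CMFree.exists_weaklyRegular_of_isRegularLocalRing A'
  haveI := CMFree.isCohenMacaulayLocalRing_of_weaklyRegular A' rs h1 h2 h3.ge
  letI : Algebra A' (X.presheaf.stalk ξ) := (resHom ι' ξ).toAlgebra
  letI : Module A' (ω.presheaf.stalk ξ) := Module.compHom _ (resHom ι' ξ)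
  haveI : IsScalarTower A' (X.presheaf.stalk ξ) (ω.presheaf.stalk ξ) :=
    IsScalarTower.of_algebraMap_smul fun _ _ => rfl
  refine eq_zero_of_smul_eq_zero (A := A') (B := X.presheaf.stalk ξ) (M := ω.presheaf.stalk ξ) (c := c)
    (resHom_surjective ι' ξ) E.toLinearEquiv ?_ hb hm
  intro Q hQ
  have hc := Ideal.comap_minimalPrimes_eq_of_surjective (f := algebraMap A' (X.presheaf.stalk ξ))
    (resHom_surjective ι' ξ) (⊥ : Ideal (X.presheaf.stalk ξ))
  rw [← RingHom.ker_eq_comap_bot] at hc
  rw [hc] at hQ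
  obtain ⟨Q', hQ', rfl⟩ := hQ
  haveI := hQ'.1.1
  let q : PrimeSpectrum (X.presheaf.stalk ξ) := ⟨Q', hQ'.1.1⟩
  let ξ' := X.fromSpecStalk ξ q
  have hsp : ξ' ⤳ ξ := Scheme.range_fromSpecStalk.subset (Set.mem_range_self q)
  have hgen : closure ({ξ'} : Set ↥X) ∈ irreducibleComponents ↥X := by
    rw [closure_mem_irreducibleComponents_iff, Birat.ringKrullDim_stalk_fromSpecStalk,
      (Ideal.height_eq_zero_iff (I := q.asIdeal)).2 hQ']
    rfl
  have h := hcodim ξ' hsp hgen
  rw [show ι' ξ' = P.fromSpecStalk (ι' ξ) (PrimeSpectrum.comap (ι'.stalkMap ξ).hom q) from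
    DimCut.apply_fromSpecStalk ι' ξ q, Birat.ringKrullDim_stalk_fromSpecStalk] at h
  have h' : (Ideal.comap (ι'.stalkMap ξ).hom Q').height = (c : ℕ∞) := WithBot.coe_injective h
  rw [← h', show Ideal.comap (algebraMap A' (X.presheaf.stalk ξ)) Q' =
    (Ideal.comap (ι'.stalkMap ξ).hom Q').comap σ.toRingHom from (Ideal.comap_comap _ _).symm]
  exact RingEquiv.height_comap σ _

/-- At a generic point with reduced local ring the stalk is one-dimensional. -/
theorem finrank_stalk_eq_one (hreg : IsRegularLocalRing (P.presheaf.stalk (ι' ξ)))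
    (hgen : closure ({ξ} : Set ↥X) ∈ irreducibleComponents ↥X)
    (hdim : ringKrullDim (P.presheaf.stalk (ι' ξ)) = (c : WithBot ℕ∞))
    (hred : _root_.IsReduced (X.presheaf.stalk ξ))
    {ωP : P.Modules} (hωP : FlatMod.IsFinLocFreeOfRank 1 ωP) {ω : X.Modules}
    (hω : Nonempty ((Scheme.Modules.pushforward ι').obj ω ≅
      (ModSite.extSh (O := P.sheaf) ((Scheme.Modules.pushforward ι').obj (Coh.structureModule X)) c).obj ωP)) :
    Module.Free (X.presheaf.stalk ξ) (ω.presheaf.stalk ξ) ∧
      Module.finrank (X.presheaf.stalk ξ) (ω.presheaf.stalk ξ) = 1 := by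
  haveI := hreg
  haveI := hred
  obtain ⟨E⟩ := nonempty_stalk_iso_ext ι' ξ hωP hω
  let A' := ModSite.stalkRing (pt (ι' ξ)) P.sheaf
  let σ := ringEquiv (ι' ξ)
  haveI : IsRegularLocalRing A' := IsRegularLocalRing.of_ringEquiv (R := P.presheaf.stalk (ι' ξ)) σ.symm
  have hdim' : ringKrullDim A' = (c : WithBot ℕ∞) := by rw [ringKrullDim_eq_of_ringEquiv σ]; exact hdim
  haveI : Ring.KrullDimLE 0 (X.presheaf.stalk ξ) :=
    Ring.krullDimLE_iff.2 ((closure_mem_irreducibleComponents_iff ξ).1 hgen).le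
  have hfield : IsField (X.presheaf.stalk ξ) :=
    Ring.KrullDimLE.isField_of_isReduced
  letI : Algebra A' (X.presheaf.stalk ξ) := (resHom ι' ξ).toAlgebra
  have hker : RingHom.ker (algebraMap A' (X.presheaf.stalk ξ)) = maximalIdeal A' := by
    refine (le_maximalIdeal (RingHom.ker_ne_top _)).antisymm ?_
    intro a ha
    by_contra hne
    obtain ⟨b, hb⟩ := hfield.mul_inv_cancel hne
    obtain ⟨b', rfl⟩ := resHom_surjective ι' ξ b
    have hmem : 1 - a * b' ∈ RingHom.ker (algebraMap A' (X.presheaf.stalk ξ)) := by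
      rw [RingHom.mem_ker, map_sub, map_one, map_mul]
      show 1 - resHom ι' ξ a * resHom ι' ξ b' = 0
      rw [show resHom ι' ξ a * resHom ι' ξ b' = 1 from hb, sub_self]
    have := add_mem (le_maximalIdeal (RingHom.ker_ne_top _) hmem) (Ideal.mul_mem_right b' _ ha)
    rw [sub_add_cancel] at this
    exact Ideal.IsPrime.one_notMem inferInstance this
  let κ : (A' ⧸ maximalIdeal A') ≃ₗ[A'] X.presheaf.stalk ξ :=
    Submodule.quotEquivOfEq _ _ hker.symm ≪≫ₗ
      (Ideal.quotientKerAlgEquivOfSurjective (f := Algebra.ofId A' (X.presheaf.stalk ξ))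
        (resHom_surjective ι' ξ)).toLinearEquiv
  obtain ⟨ε⟩ := nonempty_ext_residue_linearEquiv (A := A') hdim'
  letI : Module A' (ω.presheaf.stalk ξ) := Module.compHom _ (resHom ι' ξ)
  haveI : IsScalarTower A' (X.presheaf.stalk ξ) (ω.presheaf.stalk ξ) :=
    IsScalarTower.of_algebraMap_smul fun _ _ => rfl
  let f : ω.presheaf.stalk ξ ≃ₗ[A'] X.presheaf.stalk ξ :=
    (E.toLinearEquiv ≪≫ₗ GrBass.extSourceEquiv κ.toModuleIso _ c) ≪≫ₗ ε ≪≫ₗ κ
  let g : ω.presheaf.stalk ξ ≃ₗ[X.presheaf.stalk ξ] X.presheaf.stalk ξ :=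
    { f with
      map_smul' := fun b m => by
        obtain ⟨a, rfl⟩ := resHom_surjective ι' ξ b
        show f (resHom ι' ξ a • m) = resHom ι' ξ a • f m
        exact f.map_smul a m }
  exact ⟨Module.Free.of_equiv g.symm, by rw [g.finrank_eq, Module.finrank_self]⟩

end GrothLib.DualTF27
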